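import Cfsg.Agent.Lib.FusionRealize.Path
import Cfsg.Prelude.Def_FusionSystem

/-!
The graph attached to a fusion system inside the symmetric group of its underlying group.
-/

set_option autoImplicit false
set_option linter.style.haveILetI false

namespace Cfsg.Agent.FusionRealize

universe u

/-- An isomorphism between subgroups is realised by a permutation. -/
theorem exists_perm {S : Type u} [Group S] [Finite S] {P R : Subgroup S} (α : P ≃* R) :
    ∃ σ : Equiv.Perm S, ∀ (a : P) (x : S), σ ((a : S) * x) = (α a : S) * σ x := by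
  classical
  have hcard : Nat.card (S ⧸ P) = Nat.card (S ⧸ R) := by
    have h1 := P.card_eq_card_quotient_mul_card_subgroup
    have h2 := R.card_eq_card_quotient_mul_card_subgroup
    rw [Nat.card_congr α.toEquiv] at h1
    exact Nat.eq_of_mul_eq_mul_right Nat.card_pos (h1.symm.trans h2)
  obtain ⟨e⟩ := Finite.card_eq.1 hcard
  have hmem : ∀ y : S, ((QuotientGroup.mk y : S ⧸ P).out)⁻¹ * y ∈ P := fun y =>
    QuotientGroup.eq.1 (QuotientGroup.out_eq' _)
  let τ : S → S := fun y => (e (QuotientGroup.mk y)).out * (α ⟨_, hmem y⟩ : S)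
  have hτ : ∀ (y : S) (a : P), τ (y * a) = τ y * (α a : S) := by
    intro y a
    have hq : (QuotientGroup.mk (y * a) : S ⧸ P) = QuotientGroup.mk y := QuotientGroup.mk_mul_of_mem y a.2
    show (e _).out * (α ⟨_, hmem (y * a)⟩ : S) = (e _).out * (α ⟨_, hmem y⟩ : S) * _
    rw [mul_assoc, ← Subgroup.coe_mul, ← map_mul]
    congr 1
    · rw [hq]
    · congr 2
      exact Subtype.ext (by simp [hq, mul_assoc])
  have hinj : Function.Injective τ := by
    intro y y' h
    have hq : (QuotientGroup.mk y : S ⧸ P) = QuotientGroup.mk y' := by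
      apply e.injective
      have := congrArg (QuotientGroup.mk (s := R)) h
      rwa [QuotientGroup.mk_mul_of_mem _ (SetLike.coe_mem _), QuotientGroup.mk_mul_of_mem _ (SetLike.coe_mem _),
        QuotientGroup.out_eq', QuotientGroup.out_eq'] at this
    obtain ⟨a, ha⟩ : ∃ a : P, y' = y * a := ⟨⟨y⁻¹ * y', QuotientGroup.eq.1 hq⟩, (mul_inv_cancel_left _ _).symm⟩
    rw [ha, hτ] at h
    have ha1 : α a = 1 := Subtype.ext (left_eq_mul.1 h)
    rw [ha, (map_eq_one_iff α α.injective).1 ha1, OneMemClass.coe_one, mul_one]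
  refine ⟨((Equiv.inv S).trans (Equiv.ofBijective τ (Finite.injective_iff_bijective.1 hinj))).trans (Equiv.inv S),
    fun a x => ?_⟩
  show (τ ((a : S) * x)⁻¹)⁻¹ = (α a : S) * (τ x⁻¹)⁻¹
  rw [show ((a : S) * x)⁻¹ = x⁻¹ * ((a⁻¹ : P) : S) by simp, hτ]
  simp

variable {Ω : Type u} [Group Ω] {S : Subgroup Ω} (F : Cfsg.FusionSystem S)

/-- The symmetric group on `S`. -/
abbrev Sym (S : Subgroup Ω) := Equiv.Perm S

/-- Left translations. -/
def reg (S : Subgroup Ω) : S →* Sym S := MulAction.toPermHom S S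

theorem reg_apply (s x : S) : reg S s x = s * x := rfl

theorem reg_injective : Function.Injective (reg S) := fun s t h => by
  have := Equiv.congr_fun h 1
  simpa [reg_apply] using this

/-- The labels. -/
abbrev Lab := Σ P : Subgroup Ω, {φ : P →* Ω // φ ∈ F.Hom P}

/-- The source of a label inside `S`. -/
def incl (f : Lab F) : f.1 →* S := (Subgroup.inclusion (F.le_of_mem f.2.2).1)

/-- The map of a label into `S`. -/
def lmap (f : Lab F) : f.1 →* S := f.2.1.codRestrict S (F.le_of_mem f.2.2).2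

theorem lmap_val (f : Lab F) (u : f.1) : (lmap F f u : Ω) = f.2.1 u := rfl

/-- The range of a label in the symmetric group. -/
def edgeStab (f : Lab F) : Subgroup (Sym S) := ((reg S).comp (lmap F f)).range

theorem exists_sigma [Finite S] (f : Lab F) :
    ∃ σ : Sym S, ∀ u : f.1, σ * reg S (incl F f u) = reg S (lmap F f u) * σ := by
  have hinj : Function.Injective (lmap F f) := fun u v h =>
    F.injective_of_mem f.2.2 (congrArg Subtype.val h)
  obtain ⟨σ, hσ⟩ := exists_perm ((MonoidHom.ofInjective (Subgroup.inclusion_injective (F.le_of_mem f.2.2).1)).symm.trans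
    (MonoidHom.ofInjective hinj))
  refine ⟨σ, fun u => Equiv.ext fun x => ?_⟩
  have h := hσ ((MonoidHom.ofInjective (Subgroup.inclusion_injective (F.le_of_mem f.2.2).1)) u) x
  rw [MulEquiv.trans_apply, MulEquiv.symm_apply_apply] at h
  exact h

variable [Finite S]

/-- The permutation of a label. -/
noncomputable def sigma (f : Lab F) : Sym S := (exists_sigma F f).choose

theorem sigma_spec (f : Lab F) (u : f.1) : sigma F f * reg S (incl F f u) = reg S (lmap F f u) * sigma F f :=
  (exists_sigma F f).choose_spec u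

/-- The vertices. -/
abbrev Vert (S : Subgroup Ω) := Sym S ⧸ (reg S).range

/-- The edges. -/
abbrev Edge := Σ f : Lab F, Sym S ⧸ edgeStab F f

theorem edgeStab_le (f : Lab F) : edgeStab F f ≤ (reg S).range := by
  rintro _ ⟨u, rfl⟩
  exact ⟨_, rfl⟩

/-- The graph. -/
noncomputable def graph : GGraph (Sym S) (Edge F) (Vert S) where
  actE :=
    { toFun := fun q => Equiv.sigmaCongrRight fun f => MulAction.toPerm q
      map_one' := Equiv.ext fun e => Sigma.ext rfl (heq_of_eq (show (1 : Sym S) • e.2 = e.2 from one_smul _ _))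
      map_mul' := fun q q' => Equiv.ext fun e => Sigma.ext rfl (heq_of_eq (show (q * q') • e.2 = q • q' • e.2 from mul_smul _ _ _)) }
  actV := MulAction.toPermHom (Sym S) (Vert S)
  src e := Quotient.liftOn' e.2 (fun x => (QuotientGroup.mk x : Vert S)) fun x y h =>
    QuotientGroup.eq.2 (edgeStab_le F e.1 (QuotientGroup.leftRel_apply.1 h))
  tgt e := Quotient.liftOn' e.2 (fun x => (QuotientGroup.mk (x * sigma F e.1) : Vert S)) fun x y h => by
    obtain ⟨u, hu⟩ := QuotientGroup.leftRel_apply.1 h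
    refine QuotientGroup.eq.2 ⟨incl F e.1 u, ?_⟩
    have h1 := sigma_spec F e.1 u
    rw [MonoidHom.comp_apply] at hu
    rw [hu] at h1
    rw [show (x * sigma F e.1)⁻¹ * (y * sigma F e.1) = (sigma F e.1)⁻¹ * ((x⁻¹ * y) * sigma F e.1) by group, ← h1,
      inv_mul_cancel_left]
  src_act q e := by
    obtain ⟨f, c⟩ := e
    induction c using QuotientGroup.induction_on with
    | H x => rfl
  tgt_act q e := by
    obtain ⟨f, c⟩ := e
    induction c using QuotientGroup.induction_on with
    | H x =>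
      show (QuotientGroup.mk (q * x * sigma F f) : Vert S) = QuotientGroup.mk (q * (x * sigma F f))
      rw [mul_assoc]

/-- The base vertex. -/
def base : Vert S := QuotientGroup.mk 1

theorem graph_actV (q : Sym S) : (graph F).actV q (base (S := S)) = QuotientGroup.mk q := by
  show (QuotientGroup.mk (q * 1) : Vert S) = _
  rw [mul_one]

theorem actE_mk (q : Sym S) (f : Lab F) (x : Sym S) :
    (graph F).actE q ⟨f, QuotientGroup.mk x⟩ = ⟨f, QuotientGroup.mk (q * x)⟩ := rfl

/-- A map of the system followed by an inner one. -/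
theorem conj_comp {P A : Subgroup Ω} {s : Ω} (hs : s ∈ S) {φ' : P →* Ω} (h' : φ' ∈ F.Hom P) {χ : A →* Ω}
    (hχ : χ ∈ F.Hom A) (hA : ∀ u, φ' u ∈ A) {φ : P →* Ω} (hφ : ∀ u, φ u = s * χ ⟨φ' u, hA u⟩ * s⁻¹) :
    φ ∈ F.Hom P := by
  have h1 := F.comp_mem h' hχ hA
  have hrS : χ.range ≤ S := by
    rintro _ ⟨a, rfl⟩
    exact (F.le_of_mem hχ).2 a
  have h2 := F.comp_mem h1 (F.conj_mem hrS hs) fun u => ⟨_, rfl⟩
  convert h2 using 1
  exact MonoidHom.ext hφ

/-- Fusion along a path comes from the system. -/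
theorem hom_of_path : ∀ (L : List (Edge F × Bool)) (q : Sym S),
    (graph F).Path base L ((graph F).actV q base) →
    ∀ (P : Subgroup Ω) (hP : P ≤ S) (φ : P →* Ω) (hφ : ∀ u, φ u ∈ S),
      (∀ u : P, q * reg S ⟨u, hP u.2⟩ = reg S ⟨φ u, hφ u⟩ * q ∧
        ∀ l ∈ L, (graph F).actE (reg S ⟨φ u, hφ u⟩) l.1 = l.1) → φ ∈ F.Hom P
  | [], q, hpath, P, hP, φ, hφ, hu => by
    rw [graph_actV] at hpath
    obtain ⟨s, hs⟩ := QuotientGroup.eq.1 (show (QuotientGroup.mk 1 : Vert S) = QuotientGroup.mk q from hpath)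
    rw [inv_one, one_mul] at hs
    subst hs
    have h : φ = Cfsg.conjHom P (s : Ω) := MonoidHom.ext fun u => by
      have h1 := (hu u).1
      rw [← map_mul, ← map_mul] at h1
      have h2 := congrArg Subtype.val (reg_injective h1)
      show φ u = (s : Ω) * u * (s : Ω)⁻¹
      exact eq_mul_inv_of_mul_eq h2.symm
    rw [h]
    exact F.conj_mem hP s.2
  | (⟨f, c⟩, b) :: L, q, hpath, P, hP, φ, hφ, hu => by
    induction c using QuotientGroup.induction_on with
    | H x =>
    obtain ⟨hst, hrest⟩ := hpath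
    have hfix : ∀ u : P, x⁻¹ * reg S ⟨φ u, hφ u⟩ * x ∈ edgeStab F f := fun u => by
      have h1 := eq_of_heq (Sigma.mk.inj ((actE_mk F _ f x).symm.trans ((hu u).2 _ List.mem_cons_self))).2
      have h2 := QuotientGroup.eq.1 h1.symm
      rwa [← mul_assoc] at h2
    have hrec : ∀ (t : Sym S), (QuotientGroup.mk t : Vert S) = (graph F).en (⟨f, QuotientGroup.mk x⟩, b) →
        ∀ (φ' : P →* Ω) (hφ' : ∀ u, φ' u ∈ S),
        (∀ u, reg S ⟨φ' u, hφ' u⟩ = t⁻¹ * reg S ⟨φ u, hφ u⟩ * t) → φ' ∈ F.Hom P := by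
      intro t ht φ' hφ' he
      refine hom_of_path (L.map ((graph F).actL t⁻¹)) (t⁻¹ * q) ?_ P hP φ' hφ' fun u => ⟨?_, ?_⟩
      · have h1 := (graph F).path_act t⁻¹ hrest
        rw [← ht, ← graph_actV F t, ← Equiv.Perm.mul_apply, ← map_mul, inv_mul_cancel, map_one,
          Equiv.Perm.one_apply, ← Equiv.Perm.mul_apply, ← map_mul] at h1
        exact h1
      · rw [he, mul_assoc t⁻¹ q, (hu u).1]; group
      · intro l hl
        obtain ⟨l', hl', rfl⟩ := List.mem_map.1 hl
        show (graph F).actE _ ((graph F).actE t⁻¹ l'.1) = (graph F).actE t⁻¹ l'.1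
        rw [← Equiv.Perm.mul_apply, ← map_mul, he,
          show t⁻¹ * reg S ⟨φ u, hφ u⟩ * t * t⁻¹ = t⁻¹ * reg S ⟨φ u, hφ u⟩ by group, map_mul, Equiv.Perm.mul_apply,
          (hu u).2 l' (List.mem_cons_of_mem _ hl')]
    have hflen : ∀ v w, lmap F f v = lmap F f w → v = w := fun v w h =>
      F.injective_of_mem f.2.2 (congrArg Subtype.val h)
    cases b with
    | true =>
      obtain ⟨s, hs⟩ := QuotientGroup.eq.1
        (show (QuotientGroup.mk 1 : Vert S) = QuotientGroup.mk x from (hst : (QuotientGroup.mk x : Vert S) = _).symm)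
      rw [inv_one, one_mul] at hs
      subst hs
      choose v hv using hfix
      have hv' : ∀ u, (f.2.1 (v u) : Ω) = (s : Ω)⁻¹ * φ u * s := fun u => by
        have h1 : reg S (lmap F f (v u)) = reg S (s⁻¹ * ⟨φ u, hφ u⟩ * s) := by
          rw [map_mul, map_mul, map_inv]; exact hv u
        exact congrArg Subtype.val (reg_injective h1)
      let φ' : P →* Ω := MonoidHom.mk' (fun u => (v u : Ω)) fun a b => by
        rw [← Subgroup.coe_mul]
        congr 1
        apply F.injective_of_mem f.2.2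
        rw [map_mul, hv', hv', hv', map_mul]
        group
      have hval : ∀ u, φ' u ∈ S := fun u => (F.le_of_mem f.2.2).1 (v u).2
      have hφ'mem : φ' ∈ F.Hom P := hrec (reg S s * sigma F f) rfl φ' hval fun u => by
        have h1 := sigma_spec F f (v u)
        have h2 : reg S (lmap F f (v u)) = (reg S s)⁻¹ * reg S ⟨φ u, hφ u⟩ * reg S s := hv u
        rw [h2] at h1
        show reg S (incl F f (v u)) = _
        rw [eq_inv_mul_of_mul_eq h1]
        group
      refine conj_comp F s.2 hφ'mem f.2.2 (fun u => (v u).2) fun u => ?_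
      rw [show (⟨φ' u, (v u).2⟩ : f.1) = v u from rfl, hv']
      group
    | false =>
      obtain ⟨s, hs⟩ := QuotientGroup.eq.1 (show (QuotientGroup.mk 1 : Vert S) = QuotientGroup.mk (x * sigma F f) from
        (hst : (QuotientGroup.mk (x * sigma F f) : Vert S) = _).symm)
      rw [inv_one, one_mul] at hs
      obtain ⟨ψ, hψ, hψinv⟩ := F.inv_mem f.2.2
      choose v hv using hfix
      have hx : x = reg S s * (sigma F f)⁻¹ := by rw [hs, mul_inv_cancel_right]
      have hv' : ∀ u, (v u : Ω) = (s : Ω)⁻¹ * φ u * s := fun u => by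
        have h2 : reg S (lmap F f (v u)) = x⁻¹ * reg S ⟨φ u, hφ u⟩ * x := hv u
        have h1 := sigma_spec F f (v u)
        rw [h2, hx] at h1
        have h3 : reg S (incl F f (v u)) = (reg S s)⁻¹ * reg S ⟨φ u, hφ u⟩ * reg S s := by
          rw [eq_inv_mul_of_mul_eq h1]; group
        rw [← map_inv, ← map_mul, ← map_mul] at h3
        exact congrArg Subtype.val (reg_injective h3)
      let φ' : P →* Ω := MonoidHom.mk' (fun u => f.2.1 (v u)) fun a b => by
        rw [← map_mul]
        congr 1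
        apply Subtype.ext
        rw [Subgroup.coe_mul, hv', hv', hv', map_mul]
        group
      have hval : ∀ u, φ' u ∈ S := fun u => (F.le_of_mem f.2.2).2 (v u)
      have hφ'mem : φ' ∈ F.Hom P := hrec x rfl φ' hval fun u => hv u
      refine conj_comp F s.2 hφ'mem hψ (fun u => ⟨v u, rfl⟩) fun u => ?_
      show φ u = (s : Ω) * ψ ⟨f.2.1 (v u), _⟩ * (s : Ω)⁻¹
      rw [hψinv (v u), hv']
      group
  termination_by L => L.length
  decreasing_by all_goals simp

end Cfsg.Agent.FusionRealize
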