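import Mathlib

/-!
Paths in a graph as reduced words in the free group on its edges, and the fixed point of a
finite group acting on them.
-/

set_option autoImplicit false
set_option linter.style.haveILetI false

namespace Cfsg.Agent.FusionRealize

open FreeGroup (IsReduced Red invRev reduce toWord toWord_mk toWord_mul toWord_inv toWord_one
  isReduced_toWord reduce_invRev invRev_length norm_mul_le norm_inv_eq norm_mk_le mul_mk mk_toWord
  freeGroupCongr toWord_eq_nil_iff)

universe u

/-- A graph with an action of a group. -/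
structure GGraph (Q : Type u) [Group Q] (E V : Type u) where
  actE : Q →* Equiv.Perm E
  actV : Q →* Equiv.Perm V
  src : E → V
  tgt : E → V
  src_act : ∀ q e, src (actE q e) = actV q (src e)
  tgt_act : ∀ q e, tgt (actE q e) = actV q (tgt e)

variable {Q E V : Type u} [Group Q] (Γ : GGraph Q E V)

/-- The start of a letter. -/
def GGraph.st (l : E × Bool) : V := if l.2 then Γ.src l.1 else Γ.tgt l.1

/-- The end of a letter. -/
def GGraph.en (l : E × Bool) : V := if l.2 then Γ.tgt l.1 else Γ.src l.1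

theorem GGraph.en_not (e : E) (b : Bool) : Γ.en (e, !b) = Γ.st (e, b) := by
  cases b <;> simp [GGraph.en, GGraph.st]

theorem GGraph.st_not (e : E) (b : Bool) : Γ.st (e, !b) = Γ.en (e, b) := by
  cases b <;> simp [GGraph.en, GGraph.st]

/-- The word is a path between the vertices. -/
def GGraph.Path : V → List (E × Bool) → V → Prop
  | v, [], w => v = w
  | v, l :: L, w => Γ.st l = v ∧ GGraph.Path (Γ.en l) L w

theorem GGraph.path_append : ∀ {v : V} {A B : List (E × Bool)} {w : V},
    Γ.Path v (A ++ B) w ↔ ∃ m, Γ.Path v A m ∧ Γ.Path m B w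
  | v, [], B, w => ⟨fun h => ⟨v, rfl, h⟩, fun ⟨_, h1, h2⟩ => by cases h1; exact h2⟩
  | v, l :: A, B, w => by
    rw [List.cons_append]
    show (_ ∧ _) ↔ _
    rw [GGraph.path_append]
    exact ⟨fun ⟨h, m, h1, h2⟩ => ⟨m, ⟨h, h1⟩, h2⟩, fun ⟨m, ⟨h, h1⟩, h2⟩ => ⟨h, m, h1, h2⟩⟩

theorem GGraph.path_end : ∀ {L : List (E × Bool)} {v w w' : V}, Γ.Path v L w → Γ.Path v L w' → w = w'
  | [], _, _, _, h, h' => h.symm.trans h'
  | _ :: _, _, _, _, h, h' => GGraph.path_end h.2 h'.2

theorem GGraph.path_invRev : ∀ {L : List (E × Bool)} {v w : V}, Γ.Path v L w → Γ.Path w (invRev L) v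
  | [], _, _, h => h.symm
  | (e, b) :: L, v, w, h => by
    rw [show invRev ((e, b) :: L) = invRev L ++ [(e, !b)] by simp [invRev]]
    exact Γ.path_append.2 ⟨_, GGraph.path_invRev h.2, Γ.st_not e b, (Γ.en_not e b).trans h.1⟩

theorem GGraph.path_red {v w : V} {A B : List (E × Bool)} (h : Red A B) (hA : Γ.Path v A w) : Γ.Path v B w := by
  induction h with
  | refl => exact hA
  | tail _ hstep ih =>
    cases hstep with
    | @not L₁ L₂ x b =>
      obtain ⟨m, h1, h2, h3, h4⟩ := Γ.path_append.1 ih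
      rw [Γ.en_not, h2] at h4
      exact Γ.path_append.2 ⟨m, h1, h4⟩

theorem isReduced_map {A B : Type*} {f : A → B} (hf : Function.Injective f) {L : List (A × Bool)}
    (h : IsReduced L) : IsReduced (L.map fun l => (f l.1, l.2)) := by
  refine (List.isChain_map _).2 (List.IsChain.imp ?_ h)
  intro a b hab e
  exact hab (hf e)

/-- The action on letters. -/
def GGraph.actL (q : Q) (l : E × Bool) : E × Bool := (Γ.actE q l.1, l.2)

theorem GGraph.st_act (q : Q) (l : E × Bool) : Γ.st (Γ.actL q l) = Γ.actV q (Γ.st l) := by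
  obtain ⟨e, b⟩ := l
  cases b <;> simp [GGraph.st, GGraph.actL, Γ.src_act, Γ.tgt_act]

theorem GGraph.en_act (q : Q) (l : E × Bool) : Γ.en (Γ.actL q l) = Γ.actV q (Γ.en l) := by
  obtain ⟨e, b⟩ := l
  cases b <;> simp [GGraph.en, GGraph.actL, Γ.src_act, Γ.tgt_act]

theorem GGraph.path_act (q : Q) : ∀ {L : List (E × Bool)} {v w : V}, Γ.Path v L w →
    Γ.Path (Γ.actV q v) (L.map (Γ.actL q)) (Γ.actV q w)
  | [], _, _, h => congrArg _ h
  | l :: L, _, _, h => ⟨(Γ.st_act q l).trans (congrArg _ h.1), Γ.en_act q l ▸ GGraph.path_act q h.2⟩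

variable [DecidableEq E]

/-- The action on the free group. -/
def GGraph.actF : Q →* MulAut (FreeGroup E) where
  toFun q := freeGroupCongr (Γ.actE q)
  map_one' := by
    ext x
    show FreeGroup.map (Γ.actE 1) x = x
    rw [map_one]
    exact FreeGroup.map.id x
  map_mul' q q' := by
    ext x
    show FreeGroup.map (Γ.actE (q * q')) x = FreeGroup.map (Γ.actE q) (FreeGroup.map (Γ.actE q') x)
    rw [FreeGroup.map.comp, map_mul]
    rfl

theorem GGraph.toWord_act (q : Q) (x : FreeGroup E) : (Γ.actF q x).toWord = x.toWord.map (Γ.actL q) := by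
  conv_lhs => rw [← mk_toWord (x := x)]
  show (FreeGroup.map (Γ.actE q) (FreeGroup.mk x.toWord)).toWord = _
  rw [FreeGroup.map.mk, toWord_mk]
  exact (isReduced_map (Γ.actE q).injective isReduced_toWord).reduce_eq

theorem GGraph.norm_act (q : Q) (x : FreeGroup E) : FreeGroup.norm (Γ.actF q x) = FreeGroup.norm x := by
  rw [FreeGroup.norm, Γ.toWord_act, List.length_map]; rfl

/-- An element of the free group is a path. -/
def GGraph.IsPath (v : V) (x : FreeGroup E) (w : V) : Prop := Γ.Path v x.toWord w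

theorem GGraph.isPath_one (v : V) : Γ.IsPath v 1 v := by
  rw [GGraph.IsPath, toWord_one]; rfl

theorem GGraph.IsPath.mul {v m w : V} {x y : FreeGroup E} (hx : Γ.IsPath v x m) (hy : Γ.IsPath m y w) :
    Γ.IsPath v (x * y) w := by
  rw [GGraph.IsPath, toWord_mul]
  exact Γ.path_red reduce.red (Γ.path_append.2 ⟨m, hx, hy⟩)

theorem GGraph.IsPath.inv {v w : V} {x : FreeGroup E} (hx : Γ.IsPath v x w) : Γ.IsPath w x⁻¹ v := by
  rw [GGraph.IsPath, toWord_inv]
  exact Γ.path_invRev hx

theorem GGraph.IsPath.act {v w : V} {x : FreeGroup E} (hx : Γ.IsPath v x w) (q : Q) :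
    Γ.IsPath (Γ.actV q v) (Γ.actF q x) (Γ.actV q w) := by
  rw [GGraph.IsPath, Γ.toWord_act]
  exact Γ.path_act q hx

theorem GGraph.isPath_letter (l : E × Bool) : Γ.IsPath (Γ.st l) (FreeGroup.mk [l]) (Γ.en l) := by
  rw [GGraph.IsPath, toWord_mk, IsReduced.singleton.reduce_eq]
  exact ⟨rfl, rfl⟩

/-- The ambient group. -/
abbrev GGraph.W := FreeGroup E ⋊[Γ.actF] Q

/-- The pairs of a group element and a path to the image of the base vertex. -/
def GGraph.fund (v₀ : V) : Subgroup Γ.W where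
  carrier := {z | Γ.IsPath v₀ z.left (Γ.actV z.right v₀)}
  one_mem' := by
    show Γ.IsPath v₀ 1 (Γ.actV 1 v₀)
    rw [map_one]; exact Γ.isPath_one v₀
  mul_mem' := fun {z z'} hz hz' => by
    show Γ.IsPath v₀ (z * z').left _
    rw [SemidirectProduct.mul_left, SemidirectProduct.mul_right, map_mul]
    exact GGraph.IsPath.mul Γ hz (GGraph.IsPath.act Γ hz' z.right)
  inv_mem' := fun {z} hz => by
    show Γ.IsPath v₀ z⁻¹.left _
    rw [SemidirectProduct.inv_left, SemidirectProduct.inv_right, map_inv (Γ.actF z.right⁻¹)]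
    have h := GGraph.IsPath.inv Γ (GGraph.IsPath.act Γ hz z.right⁻¹)
    rwa [← Equiv.Perm.mul_apply, ← map_mul, inv_mul_cancel, map_one, Equiv.Perm.one_apply] at h

theorem junction {l : E × Bool} {L U : List (E × Bool)} (hL : IsReduced (l :: L)) (hU : IsReduced U)
    (hne : ∀ y ∈ U.head?, y ≠ l) : IsReduced (invRev (l :: L) ++ U) := by
  refine List.IsChain.append (IsReduced.of_reduce_eq (by rw [reduce_invRev, IsReduced.reduce_eq hL])) hU fun a ha b hb e => ?_
  rw [show invRev (l :: L) = invRev L ++ [(l.1, !l.2)] by simp [invRev], List.getLast?_append] at ha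
  simp at ha
  subst ha
  by_contra hne'
  refine hne b hb (Prod.ext e.symm ?_)
  revert hne'
  cases l.2 <;> cases b.2 <;> simp

/-- The interior of a geodesic is nearer than one of its ends. -/
theorem norm_interior {c a : FreeGroup E} {l : E × Bool} {L : List (E × Bool)} (hc : c.toWord = l :: L)
    (hL : L ≠ []) : FreeGroup.norm ((FreeGroup.mk [l])⁻¹ * a) < max (FreeGroup.norm a) (FreeGroup.norm (c⁻¹ * a)) := by
  by_cases hh : ∀ y ∈ a.toWord.head?, y ≠ l
  · refine lt_max_of_lt_right ?_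
    have h1 : (c⁻¹ * a).toWord = invRev (l :: L) ++ a.toWord := by
      rw [toWord_mul, toWord_inv, hc]
      exact (junction (hc ▸ isReduced_toWord) isReduced_toWord hh).reduce_eq
    have h2 : 1 ≤ L.length := List.length_pos_iff.2 hL
    calc FreeGroup.norm ((FreeGroup.mk [l])⁻¹ * a) ≤ FreeGroup.norm (FreeGroup.mk [l])⁻¹ + FreeGroup.norm a := norm_mul_le _ _
      _ ≤ 1 + FreeGroup.norm a := by rw [norm_inv_eq]; exact Nat.add_le_add_right norm_mk_le _
      _ < FreeGroup.norm (c⁻¹ * a) := by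
        simp only [FreeGroup.norm, h1, List.length_append, invRev_length, List.length_cons]
        omega
  · refine lt_max_of_lt_left ?_
    push Not at hh
    obtain ⟨y, hy, rfl⟩ := hh
    obtain ⟨T, hT⟩ : ∃ T, a.toWord = y :: T := by
      cases ha : a.toWord with
      | nil => rw [ha] at hy; simp at hy
      | cons z T => rw [ha] at hy; simp at hy; exact ⟨T, by rw [hy]⟩
    have e : (FreeGroup.mk [y])⁻¹ * a = FreeGroup.mk T := by
      rw [inv_mul_eq_iff_eq_mul, mul_mk, ← mk_toWord (x := a), hT]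
      rfl
    rw [e]
    show _ < (a.toWord).length
    rw [hT, List.length_cons]
    exact Nat.lt_succ_of_le norm_mk_le

/-- A finite subgroup fixes a vertex of the tree of paths. -/
theorem GGraph.exists_fixed (v₀ : V) (H : Subgroup Γ.W) [Finite H] (hH : H ≤ Γ.fund v₀) :
    ∃ (p : FreeGroup E) (x : V), Γ.IsPath v₀ p x ∧
      ∀ h ∈ H, h.left * Γ.actF h.right p = p ∧ Γ.actV h.right x = x := by
  classical
  haveI : Fintype H := Fintype.ofFinite H
  let r : FreeGroup E → ℕ := fun p => Finset.univ.sup fun h : H => FreeGroup.norm (p⁻¹ * (h : Γ.W).left)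
  let star : Γ.W → FreeGroup E → FreeGroup E := fun h p => h.left * Γ.actF h.right p
  have hdist : ∀ h p a, FreeGroup.norm ((star h p)⁻¹ * star h a) = FreeGroup.norm (p⁻¹ * a) := fun h p a => by
    rw [show (star h p)⁻¹ * star h a = Γ.actF h.right (p⁻¹ * a) by
      show (h.left * Γ.actF h.right p)⁻¹ * (h.left * Γ.actF h.right a) = _
      rw [map_mul, map_inv]; group]
    exact Γ.norm_act _ _
  have hrh : ∀ (h : H) p, r (star h p) = r p := fun h p => by
    refine le_antisymm (Finset.sup_le fun k _ => ?_) (Finset.sup_le fun k _ => ?_)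
    · have e : star h ((h⁻¹ * k : H) : Γ.W).left = (k : Γ.W).left := by
        show (h : Γ.W).left * _ = _
        rw [← SemidirectProduct.mul_left, ← Subgroup.coe_mul, mul_inv_cancel_left]
      rw [← e, hdist]
      exact Finset.le_sup (f := fun k : H => FreeGroup.norm (p⁻¹ * (k : Γ.W).left)) (Finset.mem_univ _)
    · have e : star h (k : Γ.W).left = ((h * k : H) : Γ.W).left := by
        rw [Subgroup.coe_mul, SemidirectProduct.mul_left]
      rw [← hdist h, e]
      exact Finset.le_sup (f := fun j : H => FreeGroup.norm ((star h p)⁻¹ * (j : Γ.W).left)) (Finset.mem_univ _)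
  have hVh : ∀ (h : H) p w, Γ.IsPath v₀ p w → Γ.IsPath v₀ (star h p) (Γ.actV (h : Γ.W).right w) :=
    fun h p w hp => GGraph.IsPath.mul Γ (hH h.2) (GGraph.IsPath.act Γ hp _)
  have hex : ∃ n, ∃ p w, Γ.IsPath v₀ p w ∧ r p = n := ⟨_, 1, v₀, Γ.isPath_one v₀, rfl⟩
  obtain ⟨p, x, hp, hrp⟩ := Nat.find_spec hex
  have hadj : ∀ a b wa wb, Γ.IsPath v₀ a wa → Γ.IsPath v₀ b wb → r a = Nat.find hex → r b = Nat.find hex →
      a ≠ b → ∃ l, (a⁻¹ * b).toWord = [l] := by
    intro a b wa wb ha hb hra hrb hne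
    cases hw : (a⁻¹ * b).toWord with
    | nil => exact absurd (inv_mul_eq_one.1 (toWord_eq_nil_iff.1 hw)) hne
    | cons l L =>
      by_cases hL : L = []
      · exact ⟨l, by rw [hL]⟩
      exfalso
      have hab : Γ.IsPath wa (a⁻¹ * b) wb := GGraph.IsPath.mul Γ (GGraph.IsPath.inv Γ ha) hb
      have hst : Γ.st l = wa := by
        have h' : Γ.Path wa (a⁻¹ * b).toWord wb := hab
        rw [hw] at h'
        exact h'.1
      have hlt : ∀ h : H, FreeGroup.norm ((a * FreeGroup.mk [l])⁻¹ * (h : Γ.W).left) < Nat.find hex := by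
        intro h
        rw [mul_inv_rev, mul_assoc]
        refine lt_of_lt_of_le (norm_interior hw hL) (max_le ?_ ?_)
        · exact (Finset.le_sup (f := fun k : H => FreeGroup.norm (a⁻¹ * (k : Γ.W).left)) (Finset.mem_univ h)).trans hra.le
        · rw [mul_inv_rev, inv_inv, mul_assoc, mul_inv_cancel_left]
          exact (Finset.le_sup (f := fun k : H => FreeGroup.norm (b⁻¹ * (k : Γ.W).left)) (Finset.mem_univ h)).trans hrb.le
      have hm : Γ.IsPath v₀ (a * FreeGroup.mk [l]) (Γ.en l) := GGraph.IsPath.mul Γ ha (hst ▸ Γ.isPath_letter l)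
      have hpos : 0 < Nat.find hex := lt_of_le_of_lt (Nat.zero_le _) (hlt 1)
      exact Nat.find_min hex ((Finset.sup_lt_iff (by exact hpos)).2 fun h _ => hlt h) ⟨_, _, hm, rfl⟩
  refine ⟨p, x, hp, fun h hh => ?_⟩
  have key : star h p = p := by
    by_contra hne
    set p' := star h p with hp'
    set p'' := star h p' with hp''
    obtain ⟨l, hl⟩ := hadj p p' _ _ hp (hVh ⟨h, hh⟩ p x hp) hrp ((hrh ⟨h, hh⟩ p).trans hrp) (Ne.symm hne)
    have e : p'⁻¹ * p'' = Γ.actF h.right (p⁻¹ * p') := by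
      rw [hp'', hp']
      show (h.left * Γ.actF h.right p)⁻¹ * (h.left * Γ.actF h.right (h.left * Γ.actF h.right p)) =
        Γ.actF h.right (p⁻¹ * (h.left * Γ.actF h.right p))
      simp only [map_mul, map_inv]
      group
    have h2 : (p⁻¹ * p'').toWord = [l, Γ.actL h.right l] := by
      rw [show p⁻¹ * p'' = (p⁻¹ * p') * (p'⁻¹ * p'') by group, e, toWord_mul, Γ.toWord_act, hl]
      exact IsReduced.reduce_eq (List.isChain_pair.2 fun _ => rfl)
    have hne2 : p ≠ p'' := fun e2 => by rw [e2, inv_mul_cancel, toWord_one] at h2; exact List.cons_ne_nil _ _ h2.symm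
    obtain ⟨l', hl'⟩ := hadj p p'' _ _ hp (hVh ⟨h, hh⟩ p' _ (hVh ⟨h, hh⟩ p x hp)) hrp
      (((hrh ⟨h, hh⟩ p').trans (hrh ⟨h, hh⟩ p)).trans hrp) hne2
    rw [h2] at hl'
    simp at hl'
  refine ⟨key, ?_⟩
  have h1 := hVh ⟨h, hh⟩ p x hp
  simp only [key] at h1
  exact Γ.path_end h1 hp

end Cfsg.Agent.FusionRealize
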